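import Mathlib
import Cfsg.Agent.Helper42.B43c.Arith

/-!
# (R6) for helper42's S4700: arithmetic of the reduction, and characteristic two
-/

set_option autoImplicit false

namespace Cfsg.Agent.Helper48.B43c

open Cfsg.Agent.Helper42.B43c

/-- (R6) arithmetic of the reduction -/
theorem formC_of_mul (p n n₁ k : ℕ) (hp : 2 ≤ p) (hk : k % p = 1) (hn₁ : 1 ≤ n₁)
    (h : (1 + n₁ * p) * k = 1 + n * p) : k = 1 ∨ FormC p n := by
  obtain ⟨m, hm⟩ : ∃ m, k = 1 + m * p := by
    refine ⟨k / p, ?_⟩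
    have h1 := Nat.div_add_mod k p
    rw [hk] at h1
    rw [mul_comm (k / p) p]
    omega
  rcases Nat.eq_zero_or_pos m with h0 | hpos
  · left
    rw [hm, h0, zero_mul, add_zero]
  · right
    subst hm
    have hp0 : 0 < p := by omega
    have hn : n = n₁ + m + n₁ * m * p := by
      have h2 : (n₁ + m + n₁ * m * p) * p + 1 = n * p + 1 := by
        rw [add_comm (n * p) 1, ← h]
        ring
      have h3 : (n₁ + m + n₁ * m * p) * p = n * p := by omega
      exact (Nat.eq_of_mul_eq_mul_right hp0 h3).symm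
    refine ⟨m * (n₁ + 1), n₁, by positivity, hn₁, ?_⟩
    rw [hn]
    ring

/-- a finite field of order `2 ^ m`, `m ≥ 1`, has characteristic 2 -/
theorem charP_two_of_card {F : Type*} [Field F] [Fintype F] (m : ℕ) (hm : 1 ≤ m)
    (hF : Fintype.card F = 2 ^ m) : CharP F 2 := by
  have h1 : ((Fintype.card F : ℕ) : F) = 0 := Nat.cast_card_eq_zero F
  rw [hF, Nat.cast_pow, Nat.cast_ofNat] at h1
  have h2 : (2 : F) = 0 := pow_eq_zero_iff (by omega) |>.mp h1
  exact CharTwo.of_one_ne_zero_of_two_eq_zero one_ne_zero h2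

end Cfsg.Agent.Helper48.B43c
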